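import Mathlib.Topology.Algebra.InfiniteSum.Real
import Mathlib.Analysis.Normed.Group.InfiniteSum
import Mathlib.Analysis.Normed.Ring.Basic
import Mathlib.Topology.Algebra.InfiniteSum.Order
import Mathlib.Topology.Algebra.InfiniteSum.Ring
import Mathlib.Analysis.Normed.Field.Basic
import Mathlib.Topology.Instances.Real.Lemmas
import Mathlib.Analysis.Normed.Module.Basic
import Mathlib.Tactic.Ring
import Mathlib.Tactic.FieldSimp
import Mathlib.Tactic.LinearCombination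

/-! Elementary identities on sums used for the modified weights attached to finite sets of
irreducible representations. -/

set_option autoImplicit false
universe u

namespace K991.Sums

variable {ι : Type u} [DecidableEq ι]

theorem tsum_compl (f : ι → ℝ) (hf : Summable f) (D : Finset ι) :
    (∑' i, if i ∈ D then (0 : ℝ) else f i) = (∑' i, f i) - ∑ i ∈ D, f i := by
  have h1 : (fun i => if i ∈ D then (0 : ℝ) else f i) =
      fun i => f i - (if i ∈ D then f i else 0) := by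
    funext i
    by_cases h : i ∈ D <;> simp [h]
  have h2 : HasSum (fun i => if i ∈ D then f i else 0) (∑ i ∈ D, f i) := by
    have h3 : HasSum (fun i => if i ∈ D then f i else 0) (∑ i ∈ D, if i ∈ D then f i else 0) :=
      hasSum_sum_of_ne_finset_zero (fun b hb => by simp [hb])
    have h4 : (∑ i ∈ D, if i ∈ D then f i else 0) = ∑ i ∈ D, f i :=
      Finset.sum_congr rfl fun i hi => by simp [hi]
    rwa [h4] at h3
  rw [h1]
  exact (hf.hasSum.sub h2).tsum_eq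

omit [DecidableEq ι] in
theorem ratio_nonneg (h h' : ι → ℕ) (i : ι) : 0 ≤ (h' i : ℝ) / (h i : ℝ) := by positivity

omit [DecidableEq ι] in
theorem ratio_le_one (h h' : ι → ℕ) (hle : ∀ i, h' i ≤ h i) (i : ι) :
    (h' i : ℝ) / (h i : ℝ) ≤ 1 := by
  apply div_le_one_of_le₀
  · exact_mod_cast hle i
  · positivity

omit [DecidableEq ι] in
theorem mul_eq_mul_div (θ : ι → ℚ) (h h' : ι → ℕ) (hle : ∀ i, h' i ≤ h i) (i : ι) :
    (θ i : ℝ) * (h' i : ℝ) = ((θ i : ℝ) * (h i : ℝ)) * ((h' i : ℝ) / (h i : ℝ)) := by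
  by_cases hi : h i = 0
  · have : h' i = 0 := Nat.le_zero.mp (hi ▸ hle i)
    simp [hi, this]
  · have : (h i : ℝ) ≠ 0 := by exact_mod_cast hi
    field_simp

omit [DecidableEq ι] in
theorem summable_mul_le (θ : ι → ℚ) (h h' : ι → ℕ) (hle : ∀ i, h' i ≤ h i)
    (hsum : Summable (fun i => (θ i : ℝ) * (h i : ℝ))) :
    Summable (fun i => (θ i : ℝ) * (h' i : ℝ)) := by
  refine Summable.of_norm_bounded hsum.abs (fun i => ?_)
  rw [mul_eq_mul_div θ h h' hle i, norm_mul, ← Real.norm_eq_abs]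
  refine mul_le_of_le_one_right (norm_nonneg _) ?_
  rw [Real.norm_of_nonneg (ratio_nonneg h h' i)]
  exact ratio_le_one h h' hle i

omit [DecidableEq ι] in
theorem norm_div_card_mul_le (h h' : ι → ℕ) (hle : ∀ i, h' i ≤ h i) (x : ℝ) (s : Finset ι) :
    ‖x / (s.card : ℝ) * ∑ i ∈ s, ((h' i : ℝ) / (h i : ℝ))‖ ≤ ‖x‖ := by
  have h0 : 0 ≤ ∑ i ∈ s, ((h' i : ℝ) / (h i : ℝ)) :=
    Finset.sum_nonneg fun i _ => ratio_nonneg h h' i
  have h1 : ∑ i ∈ s, ((h' i : ℝ) / (h i : ℝ)) ≤ (s.card : ℝ) := by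
    calc ∑ i ∈ s, ((h' i : ℝ) / (h i : ℝ)) ≤ ∑ i ∈ s, (1 : ℝ) :=
          Finset.sum_le_sum fun i _ => ratio_le_one h h' hle i
      _ = (s.card : ℝ) := by simp
  have h2 : x / (s.card : ℝ) * ∑ i ∈ s, ((h' i : ℝ) / (h i : ℝ)) =
      x * ((∑ i ∈ s, ((h' i : ℝ) / (h i : ℝ))) / (s.card : ℝ)) := by ring
  rw [h2, norm_mul]
  refine mul_le_of_le_one_right (norm_nonneg _) ?_
  rw [Real.norm_of_nonneg (by positivity)]
  exact div_le_one_of_le₀ h1 (by positivity)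

theorem first_error (f r : ι → ℝ) (T : ℝ) (D D' Dm : Finset ι) (hDm : Dm ⊆ D) (hDD' : D ⊆ D')
    (hS : ∀ E : Finset ι, (∑' i, if i ∈ E then (0 : ℝ) else f i) = T - ∑ i ∈ E, f i) :
    (∑ i ∈ D', f i * r i + (∑' i, if i ∈ D' then (0 : ℝ) else f i) / ((D' \ Dm).card : ℝ) *
      (∑ σ ∈ D' \ Dm, r σ)) - (∑ i ∈ D, f i * r i +
      (∑' i, if i ∈ D then (0 : ℝ) else f i) / ((D \ Dm).card : ℝ) *
      (∑ σ ∈ D \ Dm, r σ)) = ∑ τ ∈ D' \ D, (f τ +
      (∑' i, if i ∈ D' then (0 : ℝ) else f i) / ((D' \ Dm).card : ℝ)) *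
      (r τ - 1 / ((D \ Dm).card : ℝ) * ∑ σ ∈ D \ Dm, r σ) := by
  rw [hS D, hS D']
  have e1 : D' \ Dm = (D \ Dm) ∪ (D' \ D) := by
    ext x
    simp only [Finset.mem_sdiff, Finset.mem_union]
    constructor
    · rintro ⟨h1, h2⟩
      by_cases h3 : x ∈ D
      · exact Or.inl ⟨h3, h2⟩
      · exact Or.inr ⟨h1, h3⟩
    · rintro (⟨h1, h2⟩ | ⟨h1, h2⟩)
      · exact ⟨hDD' h1, h2⟩
      · exact ⟨h1, fun h3 => h2 (hDm h3)⟩
  have e2 : Disjoint (D \ Dm) (D' \ D) := by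
    rw [Finset.disjoint_left]
    intro x hx hx'
    exact (Finset.mem_sdiff.mp hx').2 (Finset.mem_sdiff.mp hx).1
  have e3 : ((D' \ Dm).card : ℝ) = ((D \ Dm).card : ℝ) + ((D' \ D).card : ℝ) := by
    rw [e1, Finset.card_union_of_disjoint e2]
    push_cast
    ring
  have e4 : ∑ σ ∈ D' \ Dm, r σ = ∑ σ ∈ D \ Dm, r σ + ∑ σ ∈ D' \ D, r σ := by
    rw [e1, Finset.sum_union e2]
  have e5 : ∑ i ∈ D', f i * r i = ∑ i ∈ D, f i * r i + ∑ i ∈ D' \ D, f i * r i := by
    rw [add_comm, Finset.sum_sdiff hDD']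
  have e6 : ∑ i ∈ D', f i = ∑ i ∈ D, f i + ∑ i ∈ D' \ D, f i := by
    rw [add_comm, Finset.sum_sdiff hDD']
  have e7 : ∀ a b : ℝ, ∑ τ ∈ D' \ D, (f τ + a) * (r τ - b) =
      ∑ τ ∈ D' \ D, f τ * r τ + a * ∑ τ ∈ D' \ D, r τ - b * ∑ τ ∈ D' \ D, f τ
        - a * b * ((D' \ D).card : ℝ) := by
    intro a b
    have : ∀ τ ∈ D' \ D, (f τ + a) * (r τ - b) = f τ * r τ + a * r τ - b * f τ - a * b := by
      intro τ _
      ring
    rw [Finset.sum_congr rfl this, Finset.sum_sub_distrib, Finset.sum_sub_distrib,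
      Finset.sum_add_distrib, ← Finset.mul_sum, ← Finset.mul_sum, Finset.sum_const, nsmul_eq_mul]
    ring
  rw [e7, e4, e5, e3]
  set d : ℝ := ((D \ Dm).card : ℝ) with hd
  set c : ℝ := ((D' \ D).card : ℝ) with hc
  set R := ∑ σ ∈ D \ Dm, r σ with hR
  set F := ∑ i ∈ D' \ D, f i
  set FR := ∑ i ∈ D' \ D, f i * r i
  set R' := ∑ σ ∈ D' \ D, r σ
  rw [e6]
  by_cases hd0 : d = 0
  · have hR0 : R = 0 := by
      have : D \ Dm = ∅ := by
        rw [← Finset.card_eq_zero]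
        have h9 : ((D \ Dm).card : ℝ) = 0 := hd0
        exact_mod_cast h9
      rw [hR, this, Finset.sum_empty]
    rw [hR0]
    ring
  · have hdpos : 0 < d := lt_of_le_of_ne (by positivity) (Ne.symm hd0)
    have hcn : 0 ≤ c := by positivity
    have hdc : d + c ≠ 0 := by positivity
    field_simp
    ring

theorem second_error (f r : ι → ℝ) (D : Finset ι) (d R : ℝ) (hf : Summable f)
    (hfr : Summable (fun i => f i * r i)) :
    (∑' i, f i * r i) - (∑ i ∈ D, f i * r i +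
      (∑' i, if i ∈ D then (0 : ℝ) else f i) / d * R) = ∑' τ, if τ ∈ D then (0 : ℝ) else f τ *
      (r τ - 1 / d * R) := by
  have h1 : Summable (fun τ => f τ * (r τ - 1 / d * R)) := by
    have : (fun τ => f τ * (r τ - 1 / d * R)) = fun τ => f τ * r τ - f τ * (1 / d * R) := by
      funext τ
      ring
    rw [this]
    exact hfr.sub (hf.mul_right _)
  rw [tsum_compl _ h1 D, tsum_compl _ hf D]
  have h2 : (∑' τ, f τ * (r τ - 1 / d * R)) = (∑' τ, f τ * r τ) - (∑' τ, f τ) * (1 / d * R) := by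
    rw [← tsum_mul_right, ← hfr.tsum_sub (hf.mul_right _)]
    congr 1
    funext τ
    ring
  have h3 : ∑ τ ∈ D, f τ * (r τ - 1 / d * R) = ∑ τ ∈ D, f τ * r τ - (∑ τ ∈ D, f τ) * (1 / d * R) := by
    rw [Finset.sum_mul, ← Finset.sum_sub_distrib]
    refine Finset.sum_congr rfl fun τ _ => by ring
  rw [h2, h3]
  ring

end K991.Sums
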