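import Groth.Agent.W4c3ghconstell.K991.Iso
import Groth.Agent.W4c3ghconstell.K991.Sums
import Mathlib.LinearAlgebra.FiniteDimensional.Lemmas
import Mathlib.LinearAlgebra.FiniteDimensional.Basic

/-! Weights of subcomodules: monotonicity and the consequences for stability. -/

set_option autoImplicit false
universe u v w x

open TensorProduct HopfRep W4c3ghconstell Groth.Agent.Books.ComodBasic

namespace K991.Weight

section Coalg

variable {k : Type u} {A : Type v} [Field k] [AddCommGroup A] [Module k A] [Coalgebra k A]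
variable {M : Type w} [AddCommGroup M] [Module k M] [Comod k A M]
variable (h : SimpSub k A → ℕ) (θ : SimpSub k A → ℚ)

lemma hilbAt_top (D : SimpSub k A) : hilbAt M ⊤ D = Module.finrank k (isoComp M D.1) := by
  rw [hilbAt, top_inf_eq]

lemma hilbAt_bot (D : SimpSub k A) : hilbAt M ⊥ D = 0 := by
  rw [hilbAt, bot_inf_eq, finrank_bot]

lemma hilbAt_mono (hf : ∀ D : SimpSub k A, Module.Finite k (isoComp M D.1)) {N N' : Submodule k M}
    (hN : N ≤ N') (D : SimpSub k A) : hilbAt M N D ≤ hilbAt M N' D := by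
  have := hf D
  have h2 : Module.Finite k (N' ⊓ isoComp M D.1 : Submodule k M) :=
    Submodule.finiteDimensional_of_le (S₂ := isoComp M D.1) inf_le_right
  exact Submodule.finrank_mono (inf_le_inf_right _ hN)

lemma hilbAt_le (hf : ∀ D : SimpSub k A, Module.Finite k (isoComp M D.1) ∧
      Module.finrank k (isoComp M D.1) = h D) (N : Submodule k M) (D : SimpSub k A) :
    hilbAt M N D ≤ h D := by
  rw [← (hf D).2, ← hilbAt_top]
  exact hilbAt_mono (fun D => (hf D).1) le_top D

lemma summable_theta (hf : ∀ D : SimpSub k A, Module.Finite k (isoComp M D.1) ∧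
      Module.finrank k (isoComp M D.1) = h D)
    (hsum : HasSum (fun D => (θ D : ℝ) * (h D : ℝ)) 0) (N : Submodule k M) :
    Summable (fun D => (θ D : ℝ) * (hilbAt M N D : ℝ)) :=
  K991.Sums.summable_mul_le θ h (fun D => hilbAt M N D) (hilbAt_le h hf N) hsum.summable

lemma theta_bot : theta M θ (⊥ : Submodule k M) = 0 := by
  simp [theta, hilbAt_bot]

lemma term_le (hf : ∀ D : SimpSub k A, Module.Finite k (isoComp M D.1) ∧
      Module.finrank k (isoComp M D.1) = h D) {N N' : Submodule k M} (hN : N ≤ N')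
    (hneg : ∀ D, θ D < 0 → hilbAt M N D = hilbAt M N' D) (D : SimpSub k A) :
    (θ D : ℝ) * (hilbAt M N D : ℝ) ≤ (θ D : ℝ) * (hilbAt M N' D : ℝ) := by
  by_cases hD : θ D < 0
  · rw [hneg D hD]
  · have h1 : (0 : ℝ) ≤ (θ D : ℝ) := by exact_mod_cast not_lt.mp hD
    have h2 : (hilbAt M N D : ℝ) ≤ (hilbAt M N' D : ℝ) := by
      exact_mod_cast hilbAt_mono (fun D => (hf D).1) hN D
    exact mul_le_mul_of_nonneg_left h2 h1

theorem theta_le (hf : ∀ D : SimpSub k A, Module.Finite k (isoComp M D.1) ∧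
      Module.finrank k (isoComp M D.1) = h D)
    (hsum : HasSum (fun D => (θ D : ℝ) * (h D : ℝ)) 0) {N N' : Submodule k M} (hN : N ≤ N')
    (hneg : ∀ D, θ D < 0 → hilbAt M N D = hilbAt M N' D) : theta M θ N ≤ theta M θ N' :=
  (summable_theta h θ hf hsum N).tsum_le_tsum (term_le h θ hf hN hneg)
    (summable_theta h θ hf hsum N')

theorem theta_lt (hf : ∀ D : SimpSub k A, Module.Finite k (isoComp M D.1) ∧
      Module.finrank k (isoComp M D.1) = h D)
    (hsum : HasSum (fun D => (θ D : ℝ) * (h D : ℝ)) 0) {N N' : Submodule k M} (hN : N ≤ N')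
    (hneg : ∀ D, θ D < 0 → hilbAt M N D = hilbAt M N' D) (D : SimpSub k A) (hD : θ D ≠ 0)
    (hlt : hilbAt M N D < hilbAt M N' D) : theta M θ N < theta M θ N' := by
  have hpos : 0 < θ D := by
    rcases lt_trichotomy (θ D) 0 with h1 | h1 | h1
    · exact absurd (hneg D h1) hlt.ne
    · exact absurd h1 hD
    · exact h1
  refine (summable_theta h θ hf hsum N).tsum_lt_tsum (i := D) (term_le h θ hf hN hneg) ?_
    (summable_theta h θ hf hsum N')
  have h1 : (0 : ℝ) < (θ D : ℝ) := by exact_mod_cast hpos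
  have h2 : (hilbAt M N D : ℝ) < (hilbAt M N' D : ℝ) := by exact_mod_cast hlt
  exact mul_lt_mul_of_pos_left h2 h1

lemma hilbAt_pos (hf : ∀ D : SimpSub k A, Module.Finite k (isoComp M D.1)) {N : Submodule k M}
    {D : SimpSub k A} (hD : N ⊓ isoComp M D.1 ≠ ⊥) : 0 < hilbAt M N D := by
  have := hf D
  have h2 : Module.Finite k (N ⊓ isoComp M D.1 : Submodule k M) :=
    Submodule.finiteDimensional_of_le (S₂ := isoComp M D.1) inf_le_right
  rw [hilbAt, Nat.pos_iff_ne_zero, Ne, Submodule.finrank_eq_zero]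
  exact hD

lemma isoComp_le_of_hilbAt_eq (hf : ∀ D : SimpSub k A, Module.Finite k (isoComp M D.1))
    {N : Submodule k M} {D : SimpSub k A}
    (hD : Module.finrank k (isoComp M D.1) ≤ hilbAt M N D) : isoComp M D.1 ≤ N := by
  have := hf D
  have : N ⊓ isoComp M D.1 = isoComp M D.1 :=
    Submodule.eq_of_le_of_finrank_le inf_le_right hD
  exact inf_eq_right.mp this

end Coalg

section Hopf

variable {k : Type u} {A : Type v} [Field k] [CommRing A] [Bialgebra k A]
variable {R : Type w} [CommRing R] [Algebra k R] [Comod k A R]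
variable {M : Type x} [AddCommGroup M] [Module k M] [Module R M] [IsScalarTower k R M]
  [Comod k A M] [TameAct.IsHopfMod k A R M]
variable (h : SimpSub k A → ℕ) (θ : SimpSub k A → ℚ)

omit [Comod k A R] [TameAct.IsHopfMod k A R M] in
lemma genIn_neg (N : Submodule R M) (D : SimpSub k A) (hD : θ D < 0) :
    hilbAt M ((genIn k A R M {D | θ D < 0} N).restrictScalars k) D =
      hilbAt M (N.restrictScalars k) D := by
  rw [hilbAt, hilbAt, Iso.genIn_inf_eq {D | θ D < 0} N (D := D) hD]

omit [Comod k A R] [TameAct.IsHopfMod k A R M] in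
lemma theta_genIn_le (hf : ∀ D : SimpSub k A, Module.Finite k (isoComp M D.1) ∧
      Module.finrank k (isoComp M D.1) = h D)
    (hsum : HasSum (fun D => (θ D : ℝ) * (h D : ℝ)) 0) (N : Submodule R M) :
    theta M θ ((genIn k A R M {D | θ D < 0} N).restrictScalars k) ≤
      theta M θ (N.restrictScalars k) :=
  theta_le h θ hf hsum (Iso.genIn_le {D | θ D < 0} N) (genIn_neg θ N)

omit [Comod k A R] [TameAct.IsHopfMod k A R M] in
/-- A non-zero submodule whose negative isotypic parts vanish has positive weight (when the weight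
vanishes nowhere on the support). -/
lemma theta_pos_of_neg_eq_bot (hM : IsConstellation k A R M h)
    (hsum : HasSum (fun D => (θ D : ℝ) * (h D : ℝ)) 0) (hθ : ∀ D, h D ≠ 0 → θ D ≠ 0)
    (N : Submodule R M) (hN : IsSubcomod (k := k) (A := A) (N.restrictScalars k)) (hne : N ≠ ⊥)
    (hneg : ∀ D, θ D < 0 → hilbAt M (N.restrictScalars k) D = 0) :
    0 < theta M θ (N.restrictScalars k) := by
  obtain ⟨D, hD⟩ := Iso.exists_inf_isoComp_ne_bot (N.restrictScalars k) hN
    (by simpa using hne) hM.2.1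
  have h1 := hilbAt_pos (fun D => (hM.2.2 D).1) hD
  have h2 : h D ≠ 0 := (h1.trans_le (hilbAt_le h hM.2.2 _ D)).ne'
  have h3 := theta_lt (N := (⊥ : Submodule k M)) (N' := N.restrictScalars k) h θ hM.2.2 hsum bot_le
    (fun D hD => by rw [hilbAt_bot, hneg D hD]) D (hθ D h2) (by rwa [hilbAt_bot])
  rwa [theta_bot] at h3

end Hopf

end K991.Weight
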