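import Groth.Prelude.Def_W4c3ghconstell
import Groth.Agent.Books.ComodBasic

/-! Isotypic components of comodules: subcoalgebras and functionals, independence of simple
subcoalgebras, submodules generated by isotypic parts of equivariant modules. -/

set_option autoImplicit false
universe u v w x

open TensorProduct HopfRep W4c3ghconstell Groth.Agent.Books.ComodBasic

namespace K991.Iso

section Slices

variable {k : Type u} {A : Type v} [Field k] [AddCommGroup A] [Module k A]
variable {B : Type x} [AddCommGroup B] [Module k B]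
variable {M : Type w} [AddCommGroup M] [Module k M]

lemma slice_lTensor (φ : B →ₗ[k] k) (f : A →ₗ[k] B) (x : M ⊗[k] A) :
    slice M φ (f.lTensor M x) = slice M (φ ∘ₗ f) x := by
  induction x with
  | zero => simp
  | tmul v a => simp
  | add x y hx hy => simp only [map_add, hx, hy]

lemma slice_zero (x : M ⊗[k] A) : slice M (0 : A →ₗ[k] k) x = 0 := by
  induction x with
  | zero => simp
  | tmul v a => simp
  | add x y hx hy => simp only [map_add, hx, hy, add_zero]

/-- Membership in `M ⊗ D` is detected by the functionals killing `D`. -/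
lemma mem_range_lTensor_iff (D : Submodule k A) (x : M ⊗[k] A) :
    x ∈ LinearMap.range (LinearMap.lTensor M D.subtype) ↔
      ∀ φ : A →ₗ[k] k, (∀ d ∈ D, φ d = 0) → slice M φ x = 0 := by
  constructor
  · rintro ⟨y, rfl⟩ φ hφ
    rw [slice_lTensor]
    have : φ ∘ₗ D.subtype = 0 := by
      ext d
      exact hφ d d.2
    rw [this, slice_zero]
  · intro h
    have hex : Function.Exact (D.subtype.lTensor M) (D.mkQ.lTensor M) :=
      _root_.lTensor_exact M (f := D.subtype) (g := D.mkQ)
        (LinearMap.exact_subtype_mkQ D) (Submodule.mkQ_surjective D)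
    refine (hex x).1 (eq_zero_of_slice fun φ => ?_)
    rw [slice_lTensor]
    refine h _ fun d hd => ?_
    rw [LinearMap.comp_apply, Submodule.mkQ_apply, (Submodule.Quotient.mk_eq_zero D).mpr hd, map_zero]

lemma comm_lTensor (f : A →ₗ[k] B) (y : M ⊗[k] A) :
    TensorProduct.comm k M B (f.lTensor M y) = f.rTensor M (TensorProduct.comm k M A y) := by
  induction y with
  | zero => simp
  | tmul v a => simp
  | add x y hx hy => simp only [map_add, hx, hy]

/-- Membership in `M ⊗ D` is detected by the functionals on `M`. -/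
lemma mem_range_lTensor_iff' (D : Submodule k A) (x : M ⊗[k] A) :
    x ∈ LinearMap.range (LinearMap.lTensor M D.subtype) ↔
      ∀ g : M →ₗ[k] k, slice A g (TensorProduct.comm k M A x) ∈ D := by
  rw [← mem_range_rTensor_iff D]
  constructor
  · rintro ⟨y, rfl⟩
    exact ⟨TensorProduct.comm k M D y, (comm_lTensor _ _).symm⟩
  · rintro ⟨y, hy⟩
    refine ⟨(TensorProduct.comm k M D).symm y, ?_⟩
    apply (TensorProduct.comm k M A).injective
    rw [← hy, comm_lTensor, LinearEquiv.apply_symm_apply]

lemma mem_range_map_of (D : Submodule k A) (x : A ⊗[k] A)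
    (h1 : x ∈ LinearMap.range (LinearMap.rTensor A D.subtype))
    (h2 : x ∈ LinearMap.range (LinearMap.lTensor A D.subtype)) :
    x ∈ LinearMap.range (TensorProduct.map D.subtype D.subtype) := by
  obtain ⟨y, rfl⟩ := h1
  have h3 : y ∈ LinearMap.range (LinearMap.lTensor D D.subtype) := by
    rw [mem_range_lTensor_iff] at h2 ⊢
    intro φ hφ
    have := h2 φ hφ
    rw [slice_rTensor] at this
    exact D.subtype_injective (by rw [this, map_zero])
  obtain ⟨z, rfl⟩ := h3
  refine ⟨z, ?_⟩
  rw [← LinearMap.comp_apply, LinearMap.rTensor_comp_lTensor]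

end Slices

section Coalg

variable {k : Type u} {A : Type v} [Field k] [AddCommGroup A] [Module k A] [Coalgebra k A]
variable {M : Type w} [AddCommGroup M] [Module k M] [Comod k A M]

lemma mem_isoComp_iff (D : Submodule k A) (m : M) :
    m ∈ isoComp M D ↔ ∀ φ : A →ₗ[k] k, (∀ d ∈ D, φ d = 0) → dact M φ m = 0 := by
  rw [isoComp, Submodule.mem_comap, mem_range_lTensor_iff]
  rfl

lemma mem_isoComp_iff' (D : Submodule k A) (m : M) :
    m ∈ isoComp M D ↔ ∀ g : M →ₗ[k] k,
      slice A g (TensorProduct.comm k M A (Comod.coact (k := k) (A := A) m)) ∈ D := by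
  rw [isoComp, Submodule.mem_comap, mem_range_lTensor_iff']

lemma isoComp_inf (D E : Submodule k A) : isoComp M (D ⊓ E) = isoComp M D ⊓ isoComp M E := by
  ext m
  rw [Submodule.mem_inf, mem_isoComp_iff', mem_isoComp_iff', mem_isoComp_iff', ← forall_and]
  rfl

lemma dmul_vanish_left {D : Submodule k A} (hD : IsSubcoalg k A D) (φ ψ : A →ₗ[k] k)
    (hφ : ∀ d ∈ D, φ d = 0) : ∀ d ∈ D, dmul k A φ ψ d = 0 := by
  intro d hd
  obtain ⟨y, hy⟩ := hD d hd
  have h0 : φ ∘ₗ D.subtype = 0 := by
    ext d
    exact hφ d d.2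
  rw [dmul, LinearMap.comp_apply, LinearMap.comp_apply]
  change LinearMap.mul' k k (TensorProduct.map φ ψ (CoalgebraStruct.comul (R := k) d)) = 0
  rw [← hy, ← LinearMap.comp_apply (TensorProduct.map φ ψ), ← TensorProduct.map_comp, h0,
    TensorProduct.map_zero_left]
  simp

/-- An isotypic component for a subcoalgebra is a subcomodule. -/
lemma isSubcomod_isoComp {D : Submodule k A} (hD : IsSubcoalg k A D) :
    IsSubcomod (k := k) (A := A) (isoComp M D) := by
  rw [isSubcomod_iff_dact]
  intro ψ w hw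
  rw [mem_isoComp_iff] at hw ⊢
  intro φ hφ
  rw [dact_dact]
  exact hw _ (dmul_vanish_left hD φ ψ hφ)

lemma isSubcoalg_iff (D : Submodule k A) :
    IsSubcoalg k A D ↔ IsSubcomod (k := k) (A := A) (V := A) D ∧ D ≤ isoComp A D := by
  constructor
  · intro h
    constructor
    · intro d hd
      obtain ⟨y, hy⟩ := h d hd
      refine ⟨LinearMap.lTensor D D.subtype y, ?_⟩
      rw [← LinearMap.comp_apply, LinearMap.rTensor_comp_lTensor]
      exact hy
    · intro d hd
      obtain ⟨y, hy⟩ := h d hd
      refine ⟨LinearMap.rTensor D D.subtype y, ?_⟩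
      rw [← LinearMap.comp_apply, LinearMap.lTensor_comp_rTensor]
      exact hy
  · rintro ⟨h1, h2⟩ d hd
    exact mem_range_map_of D _ (h1 d hd) (h2 hd)

lemma isSubcoalg_inf {D E : Submodule k A} (hD : IsSubcoalg k A D) (hE : IsSubcoalg k A E) :
    IsSubcoalg k A (D ⊓ E) := by
  rw [isSubcoalg_iff] at *
  refine ⟨IsSubcomod.inf hD.1 hE.1, ?_⟩
  rw [isoComp_inf]
  exact inf_le_inf hD.2 hE.2

lemma isoComp_mono {D E : Submodule k A} (h : D ≤ E) : isoComp M D ≤ isoComp M E := by
  intro m hm
  rw [mem_isoComp_iff'] at *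
  exact fun g => h (hm g)

lemma isSubcoalg_sup {D E : Submodule k A} (hD : IsSubcoalg k A D) (hE : IsSubcoalg k A E) :
    IsSubcoalg k A (D ⊔ E) := by
  rw [isSubcoalg_iff] at *
  refine ⟨IsSubcomod.sup hD.1 hE.1, ?_⟩
  exact sup_le (hD.2.trans (isoComp_mono le_sup_left)) (hE.2.trans (isoComp_mono le_sup_right))

lemma isSubcoalg_bot : IsSubcoalg k A (⊥ : Submodule k A) := by
  intro d hd
  rw [Submodule.mem_bot] at hd
  subst hd
  rw [map_zero]
  exact Submodule.zero_mem _

/-- A functional equal to the counit on `D` and killing `E`. -/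
lemma exists_functional {D E : Submodule k A} (h : D ⊓ E = ⊥) :
    ∃ e : A →ₗ[k] k, (∀ d ∈ D, e d = CoalgebraStruct.counit (R := k) d) ∧ ∀ d ∈ E, e d = 0 := by
  have hinj : LinearMap.ker (E.mkQ ∘ₗ D.subtype) = ⊥ := by
    rw [LinearMap.ker_comp, Submodule.ker_mkQ, Submodule.eq_bot_iff]
    intro d hd
    have : (d : A) ∈ D ⊓ E := ⟨d.2, hd⟩
    rw [h, Submodule.mem_bot] at this
    exact Subtype.ext this
  obtain ⟨g, hg⟩ := LinearMap.exists_leftInverse_of_injective _ hinj
  refine ⟨(CoalgebraStruct.counit (R := k) (A := A)) ∘ₗ D.subtype ∘ₗ g ∘ₗ E.mkQ, ?_, ?_⟩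
  · intro d hd
    have := LinearMap.congr_fun hg ⟨d, hd⟩
    simp only [LinearMap.comp_apply, Submodule.subtype_apply, LinearMap.id_apply] at this ⊢
    rw [this]
  · intro d hd
    simp only [LinearMap.comp_apply, Submodule.mkQ_apply, (Submodule.Quotient.mk_eq_zero E).mpr hd,
      map_zero]

lemma dact_sub (φ ψ : A →ₗ[k] k) (m : M) : dact M (φ - ψ) m = dact M φ m - dact M ψ m := by
  simp [dact, slice, LinearMap.lTensor_sub]

/-- A functional equal to the counit on `D` acts as the identity on the `D`-isotypic part. -/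
lemma dact_eq_self {D : Submodule k A} {e : A →ₗ[k] k}
    (he : ∀ d ∈ D, e d = CoalgebraStruct.counit (R := k) d) {m : M} (hm : m ∈ isoComp M D) :
    dact M e m = m := by
  rw [mem_isoComp_iff] at hm
  have := hm (e - CoalgebraStruct.counit (R := k) (A := A)) (fun d hd => by
    rw [LinearMap.sub_apply, he d hd, sub_self])
  rw [dact_sub, dact_counit, sub_eq_zero] at this
  exact this

lemma le_of_le_sup {D E F : Submodule k A} (hD : IsSimpleSubcoalg k A D) (hE : IsSubcoalg k A E)
    (hF : IsSubcoalg k A F) (h : D ≤ E ⊔ F) : D ≤ E ∨ D ≤ F := by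
  rcases hD.2.2 _ inf_le_left (isSubcoalg_inf hD.2.1 hE) with h1 | h1
  · right
    obtain ⟨e, he1, he2⟩ := exists_functional h1
    intro d hd
    obtain ⟨a, ha, b, hb, hab⟩ := Submodule.mem_sup.mp (h hd)
    have h2 : dact A e d = d := dact_eq_self he1 (((isSubcoalg_iff D).mp hD.2.1).2 hd)
    have h3 : dact A e a = 0 := (mem_isoComp_iff E a).mp (((isSubcoalg_iff E).mp hE).2 ha) e he2
    have h4 : dact A e b ∈ F := (isSubcomod_iff_dact F).mp ((isSubcoalg_iff F).mp hF).1 e b hb
    rw [← hab, map_add, h3, zero_add] at h2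
    rw [← hab, ← h2]
    exact h4
  · left
    exact inf_eq_left.mp h1

lemma isSubcoalg_finset_sup {ι : Type*} (s : Finset ι) (D : ι → Submodule k A)
    (hD : ∀ i ∈ s, IsSubcoalg k A (D i)) : IsSubcoalg k A (s.sup D) := by
  classical
  induction s using Finset.induction_on with
  | empty => simpa using isSubcoalg_bot
  | insert i s hi ih =>
    rw [Finset.sup_insert]
    exact isSubcoalg_sup (hD i (Finset.mem_insert_self _ _))
      (ih fun j hj => hD j (Finset.mem_insert_of_mem hj))

lemma exists_le_of_le_finset_sup {ι : Type*} {D : Submodule k A} (hD : IsSimpleSubcoalg k A D)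
    (s : Finset ι) (E : ι → Submodule k A) (hE : ∀ i ∈ s, IsSubcoalg k A (E i))
    (h : D ≤ s.sup E) : ∃ i ∈ s, D ≤ E i := by
  classical
  induction s using Finset.induction_on with
  | empty =>
    rw [Finset.sup_empty] at h
    exact absurd (le_bot_iff.mp h) hD.1
  | insert i s hi ih =>
    rw [Finset.sup_insert] at h
    rcases le_of_le_sup hD (hE i (Finset.mem_insert_self _ _))
      (isSubcoalg_finset_sup s E fun j hj => hE j (Finset.mem_insert_of_mem hj)) h with h1 | h1
    · exact ⟨i, Finset.mem_insert_self _ _, h1⟩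
    · obtain ⟨j, hj, hj'⟩ := ih (fun j hj => hE j (Finset.mem_insert_of_mem hj)) h1
      exact ⟨j, Finset.mem_insert_of_mem hj, hj'⟩

lemma inf_finset_sup_eq_bot (D : SimpSub k A) (s : Finset (SimpSub k A)) (hs : D ∉ s) :
    D.1 ⊓ s.sup (fun E => E.1) = ⊥ := by
  rcases D.2.2.2 _ inf_le_left (isSubcoalg_inf D.2.2.1
    (isSubcoalg_finset_sup s (fun E => E.1) fun E _ => E.2.2.1)) with h1 | h1
  · exact h1
  · exfalso
    obtain ⟨E, hE, hDE⟩ := exists_le_of_le_finset_sup D.2 s (fun E => E.1) (fun E _ => E.2.2.1)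
      (inf_eq_left.mp h1)
    rcases E.2.2.2 _ hDE D.2.2.1 with h2 | h2
    · exact D.2.1 h2
    · exact hs (by rwa [Subtype.ext h2] )

/-- A nonzero subcomodule of a sum of isotypic components meets one of them. -/
theorem exists_inf_isoComp_ne_bot (N : Submodule k M) (hN : IsSubcomod (k := k) (A := A) N)
    (hne : N ≠ ⊥) (hsup : (⨆ D : SimpSub k A, isoComp M D.1) = ⊤) :
    ∃ D : SimpSub k A, N ⊓ isoComp M D.1 ≠ ⊥ := by
  classical
  obtain ⟨n, hn, hn0⟩ := (Submodule.ne_bot_iff N).mp hne
  have hmem : n ∈ ⨆ D : SimpSub k A, isoComp M D.1 := hsup ▸ Submodule.mem_top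
  rw [Submodule.mem_iSup_iff_exists_finsupp] at hmem
  obtain ⟨f, hf, hfn⟩ := hmem
  obtain ⟨D, hD⟩ : f.support.Nonempty := by
    rw [Finset.nonempty_iff_ne_empty]
    intro h0
    apply hn0
    rw [← hfn, Finsupp.sum, h0, Finset.sum_empty]
  refine ⟨D, ?_⟩
  rw [Submodule.ne_bot_iff]
  obtain ⟨e, he1, he2⟩ := exists_functional
    (inf_finset_sup_eq_bot D (f.support.erase D) (Finset.notMem_erase D _))
  have h1 : dact M e n = f D := by
    rw [← hfn, Finsupp.sum, map_sum, Finset.sum_eq_single_of_mem D hD]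
    · exact dact_eq_self he1 (hf D)
    · intro E hE hED
      refine (mem_isoComp_iff E.1 _).mp (hf E) e fun d hd => he2 d ?_
      have : E.1 ≤ (f.support.erase D).sup (fun E => E.1) :=
        Finset.le_sup (f := fun E : SimpSub k A => E.1) (Finset.mem_erase.mpr ⟨hED, hE⟩)
      exact this hd
  refine ⟨f D, ⟨?_, hf D⟩, Finsupp.mem_support_iff.mp hD⟩
  rw [← h1]
  exact (isSubcomod_iff_dact N).mp hN e n hn

end Coalg

section Hopf

variable {k : Type u} {A : Type v} [Field k] [CommRing A] [Bialgebra k A]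
variable {R : Type w} [CommRing R] [Algebra k R] [Comod k A R]
variable {M : Type x} [AddCommGroup M] [Module k M] [Module R M] [IsScalarTower k R M]
  [Comod k A M]

omit [Comod k A R] [Comod k A M] in
lemma hmSMul_mem (P : Submodule R M) (z : R ⊗[k] A) (y : M ⊗[k] A)
    (hy : y ∈ LinearMap.range ((P.restrictScalars k).subtype.rTensor A)) :
    TameAct.hmSMul k A R M z y ∈ LinearMap.range ((P.restrictScalars k).subtype.rTensor A) := by
  obtain ⟨y, rfl⟩ := hy
  induction z with
  | zero => rw [map_zero]; exact Submodule.zero_mem _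
  | add z z' hz hz' => rw [map_add]; exact Submodule.add_mem _ hz hz'
  | tmul r a =>
    induction y with
    | zero => rw [map_zero, map_zero]; exact Submodule.zero_mem _
    | add y y' hy hy' => rw [map_add, map_add]; exact Submodule.add_mem _ hy hy'
    | tmul p b =>
      rw [LinearMap.rTensor_tmul, TameAct.hmSMul_tmul]
      exact ⟨(⟨r • (p : M), P.smul_mem r p.2⟩ : P.restrictScalars k) ⊗ₜ (a * b), rfl⟩

variable [TameAct.IsHopfMod k A R M]

/-- The `R`-submodule generated by subcomodules is a subcomodule. -/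
lemma isSubcomod_span {ι : Sort*} (W : ι → Submodule k M)
    (hW : ∀ i, IsSubcomod (k := k) (A := A) (W i)) :
    IsSubcomod (k := k) (A := A) ((Submodule.span R (⋃ i, (W i : Set M))).restrictScalars k) := by
  intro p hp
  change p ∈ Submodule.span R (⋃ i, (W i : Set M)) at hp
  induction hp using Submodule.span_induction with
  | mem x hx =>
    obtain ⟨i, hi⟩ := Set.mem_iUnion.mp hx
    rw [mem_range_rTensor_iff]
    intro φ
    refine Submodule.subset_span (Set.mem_iUnion.mpr ⟨i, ?_⟩)
    exact (isSubcomod_iff_dact (W i)).mp (hW i) φ x hi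
  | zero => rw [map_zero]; exact Submodule.zero_mem _
  | add x y _ _ hx hy => rw [map_add]; exact Submodule.add_mem _ hx hy
  | smul r x _ hx =>
    rw [TameAct.IsHopfMod.coact_smul (k := k) (A := A) (B := R)]
    exact hmSMul_mem _ _ _ hx

theorem isSubcomod_genIn (S : Set (SimpSub k A)) (N : Submodule R M)
    (hN : IsSubcomod (k := k) (A := A) (N.restrictScalars k)) :
    IsSubcomod (k := k) (A := A) ((genIn k A R M S N).restrictScalars k) := by
  have h : genIn k A R M S N = Submodule.span R (⋃ i : S,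
      ((N.restrictScalars k ⊓ isoComp M i.1.1 : Submodule k M) : Set M)) := by
    rw [genIn, Set.iUnion_coe_set]
  rw [h]
  exact isSubcomod_span _ fun i => IsSubcomod.inf hN (isSubcomod_isoComp i.1.2.2.1)

omit [TameAct.IsHopfMod k A R M] [Comod k A R] in
theorem genIn_le (S : Set (SimpSub k A)) (N : Submodule R M) : genIn k A R M S N ≤ N := by
  rw [genIn, Submodule.span_le]
  refine Set.iUnion₂_subset fun D _ => ?_
  intro x hx
  exact hx.1

omit [TameAct.IsHopfMod k A R M] [Comod k A R] in
theorem inf_le_genIn (S : Set (SimpSub k A)) (N : Submodule R M) {D : SimpSub k A} (hD : D ∈ S) :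
    N.restrictScalars k ⊓ isoComp M D.1 ≤ (genIn k A R M S N).restrictScalars k := by
  intro x hx
  exact Submodule.subset_span (Set.mem_iUnion₂.mpr ⟨D, hD, hx⟩)

omit [TameAct.IsHopfMod k A R M] [Comod k A R] in
theorem genIn_inf_eq (S : Set (SimpSub k A)) (N : Submodule R M) {D : SimpSub k A} (hD : D ∈ S) :
    (genIn k A R M S N).restrictScalars k ⊓ isoComp M D.1 = N.restrictScalars k ⊓ isoComp M D.1 := by
  apply le_antisymm
  · exact inf_le_inf_right _ (genIn_le S N)
  · exact le_inf (inf_le_genIn S N hD) inf_le_right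

omit [TameAct.IsHopfMod k A R M] [Comod k A R] in
theorem genIn_genIn (S : Set (SimpSub k A)) (N : Submodule R M) :
    genIn k A R M S (genIn k A R M S N) = genIn k A R M S N := by
  conv_rhs => rw [genIn]
  rw [genIn]
  congr 1
  exact Set.iUnion₂_congr fun D hD => by rw [genIn_inf_eq S N hD]

end Hopf

end K991.Iso
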